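import Cfsg.Agent.H705.DS.Tools
import Cfsg.Agent.H417.DegMEleven
import Cfsg.Agent.UGT.End.MEleven
import Cfsg.Agent.H704.SporCases
import Cfsg.Agent.MTwelve.SmallDegree

/-!
# The row `M_11` of S4906 (helper705)
-/

set_option autoImplicit false

namespace Cfsg.Agent.H705.DS.MEleven

open Cfsg Cfsg.Agent.H704

universe u

theorem no11 {d : ℕ} (h : IsDeg 11 d) : d ≠ 55 := by
  have h1 := check_of_isDeg (chk := fun d => !(Nat.beq d 55)) (n := 11)
    (by decide +kernel) h
  rintro rfl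
  simp at h1

/-- The row `M_11`: the degree `55` and a degree prime to `11`. -/
theorem row_M11 {K : Type u} [Group K] [Finite K] (h : Spor.IsoM11 K) {n : ℕ} (hn : 5 ≤ n)
    (hd : ∀ ψ : K → ℂ, IsIrrCharacter K ψ → ∃ d : ℕ, IsDeg n d ∧ ψ 1 = (d : ℂ)) : False := by
  have hG := UGT.End.MEleven.isM11 h
  have hs : IsSimpleGroup K := hG.1
  have hT : commutator K = ⊤ := Cfsg.Agent.MTwelve.SmallDegree.commutator_eq_top_of_card (by rw [hG.2]; norm_num)
  obtain ⟨⟨ψ, hψ⟩, hall⟩ := H417.DegMEleven.key hG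
  obtain ⟨a, ha, ha'⟩ := hd ψ ψ.2
  have h55 : a = 55 := by
    rw [hψ] at ha'
    exact_mod_cast ha'.symm
  subst h55
  obtain ⟨χ, e, hχ, hχe, he1, hpe, heT, -⟩ := H621.SymDeg.exists_irr_not_dvd hT
    (show Nat.Prime 11 by norm_num) (by rw [hG.2]; norm_num)
  obtain ⟨b, hb, hb'⟩ := hd χ hχ
  have hbe : b = e := by
    rw [hχe] at hb'
    exact_mod_cast hb'.symm
  subst hbe
  have hb2 := hall ⟨χ, hχ⟩ b hχe
  simp only [List.mem_cons, List.not_mem_nil, or_false] at hb2
  have h11 : 11 ≤ n := prime_le ha (by norm_num) (by norm_num)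
  have l1 := low_degree (by omega) ha
  have l2 := low_degree (by omega) hb
  have hn2 : n ≤ 56 := by
    by_contra hlt
    have h1 : 57 * 54 ≤ n * (n - 3) := Nat.mul_le_mul (by omega) (by omega)
    omega
  have hn3 : n = 11 ∨ n = 12 ∨ n = 56 := by
    rcases l1 with l1 | l1 | l1
    · omega
    · omega
    · have h3 : n ≤ 12 := by
        by_contra hlt
        have h1 : 13 * 10 ≤ n * (n - 3) := Nat.mul_le_mul (by omega) (by omega)
        omega
      omega
  rcases hn3 with rfl | rfl | rfl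
  · exact no11 ha rfl
  · omega
  · omega

end Cfsg.Agent.H705.DS.MEleven
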