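import Cfsg.Agent.H705.DS.Tools
import Cfsg.Agent.H417.DegMTwelve
import Cfsg.Agent.FooteOdd.SporMTwelve
import Cfsg.Agent.H852.IMMathieu

/-!
# The row `M_12` of S4906 (helper705)
-/

set_option autoImplicit false

namespace Cfsg.Agent.H705.DS.MTwelve

open Cfsg Cfsg.Agent.H704
open Subgroup
open Cfsg.Agent.Characters
open Cfsg.Agent.SmallSimple
open Cfsg.Agent.SmallSimple.PrimeLocal
open Cfsg.Agent.MTwelve
open Cfsg.Agent.MTwelve.BlockData
open Cfsg.Agent.MTwelve.FiveBlock
open Cfsg.Agent.MTwelve.FiveLocal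
open Cfsg.Agent.MTwelve.DegreeEleven
open Cfsg.Agent.MTwelve.DegreeElevenMain
open Cfsg.Agent.MTwelve.Assembly5

universe u

/-- A simple group of order `95040` has irreducible characters of degrees `45` and `54`. -/
theorem exists_degrees {G : Type u} [Group G] [Finite G] [IsSimpleGroup G]
    (hc : Nat.card G = 95040) :
    (∃ ψ : IrrCharacter G, (ψ : G → ℂ) 1 = (45 : ℕ)) ∧
      ∃ ψ : IrrCharacter G, (ψ : G → ℂ) 1 = (54 : ℕ) := by
  classical
  have := Fintype.ofFinite G
  have := Core.finite_irr (G := G)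
  have := Fintype.ofFinite (IrrCharacter G)
  have hf11 : Fact (Nat.Prime 11) := ⟨by norm_num⟩
  have hf5 : Fact (Nat.Prime 5) := ⟨by norm_num⟩
  have h11 := fun P => Cfsg.Agent.MTwelve.SylowEleven.centralizer_sylow11 hc P
  have hN := fun P => Cfsg.Agent.MTwelve.SylowEleven.card_normalizer_sylow11 hc P
  obtain ⟨R⟩ : Nonempty (Sylow 11 G) := inferInstance
  obtain ⟨Q⟩ : Nonempty (Sylow 5 G) := inferInstance
  obtain ⟨B, B5, K, χ, z, hloc, hK, hM⟩ := Final.family hc h11 R (hN R) Q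
  have h1 : B.ε (χ 1) * (deg (χ 1) : ℤ) = -54 := hM.deg 1
  have h2 : B.ε (χ 2) * (deg (χ 2) : ℤ) = 45 := hM.deg 2
  have hmem : ∀ i, χ i ∈ B.NE := fun i => (hM.mem _).2 (Or.inr ⟨i, rfl⟩)
  have d54 : deg (χ 1) = 54 := by
    rcases B.ε_eq (χ 1) (hmem 1) with h | h <;> rw [h] at h1 <;> omega
  have d45 : deg (χ 2) = 45 := by
    rcases B.ε_eq (χ 2) (hmem 2) with h | h <;> rw [h] at h2 <;> omega
  have hcd : ∀ ψ : IrrCharacter G, charDegree (ψ : G → ℂ) = deg ψ := fun ψ =>
    ElevenMain.charDegree_eq_deg ψ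
  have hval : ∀ (ψ : IrrCharacter G) (m : ℕ), deg ψ = m → (ψ : G → ℂ) 1 = (m : ℕ) := by
    intro ψ m hm
    obtain ⟨e, -, he⟩ := Core.isIrr_apply_one ψ.2
    have h1 : charDegree (ψ : G → ℂ) = e := by
      rw [charDegree, he]; simp
    rw [he, ← h1, hcd, hm]
  exact ⟨⟨χ 2, hval _ _ d45⟩, ⟨χ 1, hval _ _ d54⟩⟩

theorem no11 {d : ℕ} (h : IsDeg 11 d) (hd : d = 54 ∨ d = 108) : False := by
  have h1 := check_of_isDeg (chk := fun d => !(Nat.beq d 54) && !(Nat.beq d 108)) (n := 11)
    (by decide +kernel) h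
  rcases hd with rfl | rfl <;> simp at h1

theorem no10 {d : ℕ} (h : IsDeg 10 d) (hd : d = 54 ∨ d = 108) : False := by
  have h1 := check_of_isDeg (chk := fun d => !(Nat.beq d 54) && !(Nat.beq d 108)) (n := 10)
    (by decide +kernel) h
  rcases hd with rfl | rfl <;> simp at h1

theorem no12 {d : ℕ} (h : IsDeg 12 d) (hd : d = 45 ∨ d = 90) : False := by
  have h1 := check_of_isDeg (chk := fun d => !(Nat.beq d 45) && !(Nat.beq d 90)) (n := 12)
    (by decide +kernel) h
  rcases hd with rfl | rfl <;> simp at h1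

theorem no13 {d : ℕ} (h : IsDeg 13 d) (hd : d = 45 ∨ d = 90) : False := by
  have h1 := check_of_isDeg (chk := fun d => !(Nat.beq d 45) && !(Nat.beq d 90)) (n := 13)
    (by decide +kernel) h
  rcases hd with rfl | rfl <;> simp at h1

theorem no14 {d : ℕ} (h : IsDeg 14 d) (hd : d = 45 ∨ d = 90) : False := by
  have h1 := check_of_isDeg (chk := fun d => !(Nat.beq d 45) && !(Nat.beq d 90)) (n := 14)
    (by decide +kernel) h
  rcases hd with rfl | rfl <;> simp at h1

theorem no15 {d : ℕ} (h : IsDeg 15 d) (hd : d = 54 ∨ d = 108) : False := by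
  have h1 := check_of_isDeg (chk := fun d => !(Nat.beq d 54) && !(Nat.beq d 108)) (n := 15)
    (by decide +kernel) h
  rcases hd with rfl | rfl <;> simp at h1

/-- The row `M_12`: the degrees `45` and `54`. -/
theorem row_M12 {K : Type u} [Group K] [Finite K] (h : Spor.IsoM12 K) {n : ℕ} (hn : 5 ≤ n)
    (hd : DegOK n K) : False := by
  obtain ⟨e⟩ := h
  have hs : IsSimpleGroup Spor.M12 := Cfsg.Agent.FooteOdd.SporMTwelve.simple
  have hs' : IsSimpleGroup K := e.isSimpleGroup
  have hc : Nat.card K = 95040 := by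
    rw [Nat.card_congr e.toEquiv, H852.IMMathieu.card_M12]
  obtain ⟨⟨ψ, hψ⟩, ⟨χ, hχ⟩⟩ := exists_degrees hc
  obtain ⟨a, ha, ha'⟩ := hd.nat ψ.2 hψ
  obtain ⟨b, hb, hb'⟩ := hd.nat χ.2 hχ
  have hb2 : b = 54 ∨ b = 108 := by omega
  have ha2 : a = 45 ∨ a = 90 := by omega
  rcases Nat.lt_or_ge n 10 with h9 | h9
  · interval_cases n
    · have := deg5 ha
      rcases ha2 with rfl | rfl <;> simp at this
    · have := deg6 ha
      rcases ha2 with rfl | rfl <;> simp at this
    · have := deg7 ha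
      rcases ha2 with rfl | rfl <;> simp at this
    · have := deg8 hb
      rcases hb2 with rfl | rfl <;> simp at this
    · have := deg9 ha
      rcases ha2 with rfl | rfl <;> simp at this
  have l1 := low_degree (by omega) ha
  have l2 := low_degree (by omega) hb
  have hn2 : n ≤ 91 := by
    by_contra hlt
    have h1 : 92 * 89 ≤ n * (n - 3) := Nat.mul_le_mul (by omega) (by omega)
    omega
  have hn3 : n ≤ 15 := by
    by_contra hlt
    have h1 : 16 * 13 ≤ n * (n - 3) := Nat.mul_le_mul (by omega) (by omega)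
    rcases l1 with l1 | l1 | l1
    · omega
    · have h2 : n = 46 ∨ n = 91 := by omega
      rcases h2 with rfl | rfl <;> omega
    · omega
  interval_cases n
  · exact no10 hb hb2
  · exact no11 hb hb2
  · exact no12 ha ha2
  · exact no13 ha ha2
  · exact no14 ha ha2
  · exact no15 hb hb2

end Cfsg.Agent.H705.DS.MTwelve
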