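import Cfsg.Agent.H705.DS.Tools
import Cfsg.Agent.H417.DegMTwentyTwo
import Cfsg.Agent.H417.RecogMathieu

/-!
# The row `M_22` of S4906 (helper705)
-/

set_option autoImplicit false

namespace Cfsg.Agent.H705.DS

open Cfsg Cfsg.Agent.H704

universe u

/-- The degrees of `M_22` are `1, 21, 45, 45, 55, 99, 154, 210, 231, 280, 280, 385`. -/
theorem row_M22 {K : Type u} [Group K] [Finite K] (h : Spor.IsoM22 K) {n : ℕ} (hn : 5 ≤ n)
    (hd : DegOK n K) : False := by
  obtain ⟨f, hf⟩ := H417.DegMTwentyTwo.exists_enum (H417.RecogMathieu.isM22 h)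
  have key : ∀ i : Fin 12, ∀ m : ℕ, M22.DegreesEnd.LB.getD i 0 = m →
      ∃ d, IsDeg n d ∧ (d = m ∨ d = 2 * m) := by
    intro i m hm
    obtain ⟨e, -, he⟩ := Characters.Core.isIrr_apply_one (f i).2
    have h1 : charDegree (f i : K → ℂ) = e := by
      rw [charDegree, he]; simp
    rw [hf i, hm] at h1
    exact hd.nat (f i).2 (by rw [he, h1])
  obtain ⟨a, ha, ha'⟩ := key 1 21 rfl
  obtain ⟨b, hb, hb'⟩ := key 2 45 rfl
  obtain ⟨c, hc, hc'⟩ := key 11 385 rfl
  have h11 : 11 ≤ n := prime_le hc (by norm_num) (by rcases hc' with rfl | rfl <;> norm_num)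
  have l1 := low_degree (by omega) ha
  have l2 := low_degree (by omega) hb
  have hn2 : n ≤ 43 := by
    by_contra hlt
    have h1 : 44 * 41 ≤ n * (n - 3) := Nat.mul_le_mul (by omega) (by omega)
    omega
  interval_cases n <;> omega

end Cfsg.Agent.H705.DS
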