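import Cfsg.Agent.H704.Elim
import Cfsg.Agent.H704.LowDegree
import Cfsg.Agent.H704.Enum

/-!
# Tools for the sporadic rows of S4906 (helper705)
-/

set_option autoImplicit false

namespace Cfsg.Agent.H705.DS

open Cfsg Cfsg.Agent.H704

/-- A degree of `S_n` divides `n!`. -/
theorem isDeg_dvd {n d : ℕ} (h : IsDeg n d) : d ∣ n.factorial := by
  obtain ⟨l, -, hl⟩ := h
  exact ⟨_, hl.symm⟩

/-- The primes dividing a degree of `S_n` are at most `n`. -/
theorem prime_le {n d p : ℕ} (h : IsDeg n d) (hp : p.Prime) (hd : p ∣ d) : p ≤ n :=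
  (hp.dvd_factorial).1 (hd.trans (isDeg_dvd h))

end Cfsg.Agent.H705.DS
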